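import Groth.Agent.QCoh.Localize
import Groth.Agent.QCoh.Sections
import Groth.Agent.OmegaLib.IdealMod
import Groth.Agent.AModX.Res

/-!
# The ideal sheaf data of a quasi-coherent submodule of the structure sheaf
-/

set_option autoImplicit false
set_option linter.style.haveILetI false
set_option linter.unusedSectionVars false
set_option backward.isDefEq.respectTransparency false
set_option backward.isDefEq.respectTransparency.types false

universe u

open CategoryTheory CategoryTheory.Limits AlgebraicGeometry TopologicalSpace Opposite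

noncomputable section

namespace Groth.Agent.IdealSub

open Groth.Agent Groth.Agent.AModX

variable {X : Scheme.{u}}

theorem hom_eq_of_affine {M N : X.Modules} (g h : M ⟶ N)
    (H : ∀ (U : X.affineOpens) (x : Γ(M, U.1)), g.app U.1 x = h.app U.1 x) : g = h := by
  refine Scheme.Modules.hom_ext _ _ fun V => ?_
  ext x
  refine eq_of_locally _ _ fun y hy => ?_
  obtain ⟨Q, hQ, hyQ, hQV⟩ := exists_isAffineOpen_mem_and_subset hy
  refine ⟨Q, hQV, hyQ, ?_⟩
  rw [← app_res, ← app_res]
  exact H ⟨Q, hQ⟩ _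

theorem epi_of_affine {M N : X.Modules} (g : M ⟶ N)
    (H : ∀ U : X.affineOpens, Function.Surjective (g.app U.1)) : Epi g := by
  refine ⟨fun {T} a b hab => hom_eq_of_affine a b fun U x => ?_⟩
  obtain ⟨y, rfl⟩ := H U x
  exact congr(($hab).app U.1 y)

/-- The image on sections of a morphism to the structure sheaf. -/
def rangeIdeal {J : X.Modules} (ι : J ⟶ Coh.structureModule X) (U : X.Opens) : Ideal Γ(X, U) where
  carrier := {x | ∃ y, (show Γ(X, U) from ι.app U y) = x}
  add_mem' := by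
    rintro _ _ ⟨a, rfl⟩ ⟨b, rfl⟩
    exact ⟨a + b, map_add (ι.app U).hom a b⟩
  zero_mem' := ⟨0, map_zero (ι.app U).hom⟩
  smul_mem' := by
    rintro r _ ⟨a, rfl⟩
    exact ⟨r • a, Scheme.Modules.Hom.app_smul ι r a⟩

theorem res_app {J : X.Modules} (ι : J ⟶ Coh.structureModule X) {U V : X.Opens} (h : V ≤ U) (y : Γ(J, U)) :
    X.presheaf.map (homOfLE h).op (show Γ(X, U) from ι.app U y) =
      (show Γ(X, V) from ι.app V (J.presheaf.map (homOfLE h).op y)) :=
  (ConcreteCategory.congr_hom (ι.mapPresheaf.naturality (homOfLE h).op) y).symm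

/-- The ideal sheaf data of a quasi-coherent submodule of `O`. -/
def ofHom {J : X.Modules} (hJ : Coh.IsQCoh J) (ι : J ⟶ Coh.structureModule X) : X.IdealSheafData where
  ideal U := rangeIdeal ι U.1
  map_ideal_basicOpen U f := by
    refine le_antisymm (Ideal.map_le_iff_le_comap.2 ?_) ?_
    · rintro _ ⟨y, rfl⟩
      exact ⟨_, (res_app ι (X.basicOpen_le f) y).symm⟩
    · rintro _ ⟨y, rfl⟩
      obtain ⟨n, t, ht⟩ := QCoh.exists_pow_smul_eq_map hJ U.2 f y
      have hu : IsUnit (X.presheaf.map (homOfLE (X.basicOpen_le f)).op f ^ n) :=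
        (X.toRingedSpace.isUnit_res_basicOpen f).pow n
      obtain ⟨v, hv⟩ := hu
      have h1 : (X.presheaf.map (homOfLE (X.basicOpen_le f)).op f ^ n) *
          (show Γ(X, X.basicOpen f) from ι.app (X.basicOpen f) y) =
          X.presheaf.map (homOfLE (X.basicOpen_le f)).op (show Γ(X, U.1) from ι.app U.1 t) := by
        rw [res_app ι (X.basicOpen_le f) t, ht]
        exact (Scheme.Modules.Hom.app_smul ι _ _).symm
      have h2 : (show Γ(X, X.basicOpen f) from ι.app (X.basicOpen f) y) =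
          ↑v⁻¹ * X.presheaf.map (homOfLE (X.basicOpen_le f)).op (show Γ(X, U.1) from ι.app U.1 t) := by
        rw [← h1, ← hv, Units.inv_mul_cancel_left]
      show (show Γ(X, X.basicOpen f) from ι.app (X.basicOpen f) y) ∈ _
      rw [h2]
      exact Ideal.mul_mem_left _ _ (Ideal.mem_map_of_mem _ ⟨t, rfl⟩)

theorem mem_ofHom {J : X.Modules} (hJ : Coh.IsQCoh J) (ι : J ⟶ Coh.structureModule X) (U : X.affineOpens)
    (x : Γ(X, U.1)) : x ∈ (ofHom hJ ι).ideal U ↔ ∃ y, (show Γ(X, U.1) from ι.app U.1 y) = x := Iff.rfl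

theorem idealModι_app' (K : X.IdealSheafData) (U : X.Opens) (k : Γ(ClSub.idealMod K, U)) :
    (show Γ(X, U) from (ClSub.idealModι K).app U k) = OmegaSh.idealSect K U k := by
  rw [OmegaSh.idealSect_apply]
  rfl

/-- A quasi-coherent submodule of `O` is the module of an ideal sheaf. -/
theorem exists_iso_idealMod {J : X.Modules} (hJ : Coh.IsQCoh J) (ι : J ⟶ Coh.structureModule X) [Mono ι] :
    ∃ (I : X.IdealSheafData) (e : J ≅ ClSub.idealMod I), e.hom ≫ ClSub.idealModι I = ι := by
  let I := ofHom hJ ι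
  have hw : ι ≫ ClSub.toSubscheme I = 0 := hom_eq_of_affine _ _ fun U y => by
    obtain ⟨k, hk⟩ := OmegaLib.exists_of_mem I U (show Γ(X, U.1) from ι.app U.1 y) ⟨y, rfl⟩
    show (ClSub.toSubscheme I).app U.1 (ι.app U.1 y) = _
    rw [show ι.app U.1 y = (ClSub.idealModι I).app U.1 k from hk.symm.trans (idealModι_app' I U.1 k).symm]
    exact congr(($(kernel.condition (ClSub.toSubscheme I))).app U.1 k)
  let θ : J ⟶ ClSub.idealMod I := kernel.lift _ ι hw
  have hθ : θ ≫ ClSub.idealModι I = ι := kernel.lift_ι _ _ _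
  haveI : Mono (θ ≫ ClSub.idealModι I) := hθ.symm ▸ inferInstance
  haveI : Mono θ := mono_of_mono θ (ClSub.idealModι I)
  haveI : Epi θ := epi_of_affine θ fun U k => by
    obtain ⟨y, hy⟩ := (mem_ofHom hJ ι U _).1 (OmegaLib.idealSect_mem I U k)
    refine ⟨y, OmegaLib.idealSect_injective I U.1 ?_⟩
    rw [← hy, ← idealModι_app']
    show (θ ≫ ClSub.idealModι I).app U.1 y = _
    rw [hθ]
  haveI : IsIso θ := isIso_of_mono_of_epi θ
  exact ⟨I, asIso θ, hθ⟩

/-- An ideal is determined by its submodule. -/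
theorem le_of_comp {I I' : X.IdealSheafData} (φ : ClSub.idealMod I ⟶ ClSub.idealMod I')
    (h : φ ≫ ClSub.idealModι I' = ClSub.idealModι I) : I ≤ I' := by
  intro U x hx
  obtain ⟨k, rfl⟩ := OmegaLib.exists_of_mem I U x hx
  have h1 : OmegaSh.idealSect I U.1 k = OmegaSh.idealSect I' U.1 (φ.app U.1 k) := by
    rw [← idealModι_app', ← idealModι_app', ← h]
    rfl
  rw [h1]
  exact OmegaLib.idealSect_mem I' U _

theorem le_of_epi {I I' : X.IdealSheafData} (φ : ClSub.idealMod I ⟶ ClSub.idealMod I')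
    (h : φ ≫ ClSub.idealModι I' = ClSub.idealModι I) [IsIso φ] : I' ≤ I :=
  le_of_comp (inv φ) (by rw [← h, IsIso.inv_hom_id_assoc])

end Groth.Agent.IdealSub
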